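import Groth.Agent.CubeLib.Sec
import Groth.Agent.CubeLib.Small
import Groth.Agent.AmpleEmb.ComposeRel
import Groth.Agent.ParaFLib.Cocycle
import Groth.Agent.ParaFLib.Glue
import Groth.Agent.ParaFLib.GenExt
import Groth.Agent.AffLim.Existence
import Mathlib.AlgebraicGeometry.AffineTransitionLimit

/-!
# Invertible modules on a limit come from a stage
-/

set_option autoImplicit false
set_option backward.isDefEq.respectTransparency false
set_option linter.style.haveILetI false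

universe u

open CategoryTheory CategoryTheory.Limits AlgebraicGeometry TopologicalSpace
open Groth.Agent.ParaFLib Groth.Agent.PullbackMod Groth.Agent.CubeLib

noncomputable section

namespace Groth.Agent.PicLimLib

variable {I : Type u} [SmallCategory I] [IsCofiltered I] (D : I ⥤ Scheme.{u}) (c : Cone D) (hc : IsLimit c)
  [∀ {i j} (a : i ⟶ j), IsAffineHom (D.map a)] [∀ i, CompactSpace (D.obj i)] [∀ i, QuasiSeparatedSpace (D.obj i)]

/-- The projection to a stage. -/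
def pr {J : Type u} [Category.{u} J] {E : J ⥤ Scheme.{u}} (e : Cone E) (k : J) : e.pt ⟶ E.obj k := e.π.app k

theorem pr_w {J : Type u} [Category.{u} J] {E : J ⥤ Scheme.{u}} (e : Cone E) {j k : J} (f : k ⟶ j) :
    pr e k ≫ E.map f = pr e j := e.w f

omit [IsCofiltered I] [∀ {i j} (a : i ⟶ j), IsAffineHom (D.map a)] [∀ i, CompactSpace (D.obj i)]
  [∀ i, QuasiSeparatedSpace (D.obj i)] in
theorem preimage_le {i j : I} (φ : j ⟶ i) (O : (D.obj i).Opens) :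
    pr c i ⁻¹ᵁ O ≤ pr c j ⁻¹ᵁ (D.map φ ⁻¹ᵁ O) := fun x hx => by
  show D.map φ (pr c j x) ∈ O
  rw [← Scheme.Hom.comp_apply, pr_w]
  exact hx

omit [IsCofiltered I] [∀ {i j} (a : i ⟶ j), IsAffineHom (D.map a)] [∀ i, CompactSpace (D.obj i)]
  [∀ i, QuasiSeparatedSpace (D.obj i)] in
theorem le_w {j k : I} (f : k ⟶ j) {O : (D.obj j).Opens} {O' : (D.obj k).Opens} {T : c.pt.Opens}
    (e : T ≤ pr c k ⁻¹ᵁ O') (e' : O' ≤ D.map f ⁻¹ᵁ O) : T ≤ pr c j ⁻¹ᵁ O := fun x hx => by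
  have h : D.map f (pr c k x) ∈ O := e' (e hx)
  rw [← Scheme.Hom.comp_apply, pr_w] at h
  exact h

omit [IsCofiltered I] [∀ {i j} (a : i ⟶ j), IsAffineHom (D.map a)] [∀ i, CompactSpace (D.obj i)]
  [∀ i, QuasiSeparatedSpace (D.obj i)] in
theorem ap_w {j k : I} (f : k ⟶ j) {O : (D.obj j).Opens} {O' : (D.obj k).Opens} {T : c.pt.Opens}
    (e : T ≤ pr c k ⁻¹ᵁ O') (e' : O' ≤ D.map f ⁻¹ᵁ O) (x : Γ(D.obj j, O)) :
    ap (pr c k) e (ap (D.map f) e' x) = ap (pr c j) (le_w D c f e e') x :=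
  (ap_ap _ _ _ _ _).trans (ap_congr (pr_w c f) _ _)

omit [IsCofiltered I] [∀ {i j} (a : i ⟶ j), IsAffineHom (D.map a)] [∀ i, CompactSpace (D.obj i)]
  [∀ i, QuasiSeparatedSpace (D.obj i)] in
theorem gen_inj' {X : Scheme.{u}} {M : X.Modules} {W : X.Opens} {e : Γ(M, W)} (he : Gen W e) {a b : Γ(X, W)}
    (h : a • e = b • e) : a = b := by
  apply (he W le_rfl).1
  simpa only [ParaFLib.res_self] using h

/-- Local sections with compatible coefficients agree on overlaps. -/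
theorem pullMap_glue {X' X : Scheme.{u}} (d : X' ⟶ X) (M : X.Modules) {V₁ V₂ : X.Opens} (s₁ : Γ(M, V₁))
    (s₂ : Γ(M, V₂)) (h₁ : Γ(X', d ⁻¹ᵁ V₁)) (h₂ : Γ(X', d ⁻¹ᵁ V₂)) (e : Γ(X, V₁ ⊓ V₂))
    (he : e • M.presheaf.map (homOfLE inf_le_right).op s₂ = M.presheaf.map (homOfLE inf_le_left).op s₁)
    (h : rs (d.preimage_mono (inf_le_left : V₁ ⊓ V₂ ≤ V₁)) h₁ * ap d le_rfl e =
      rs (d.preimage_mono (inf_le_right : V₁ ⊓ V₂ ≤ V₂)) h₂) :
    ((Scheme.Modules.pullback d).obj M).presheaf.map (homOfLE (inf_le_left : d ⁻¹ᵁ V₁ ⊓ d ⁻¹ᵁ V₂ ≤ d ⁻¹ᵁ V₁)).op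
        (h₁ • pullMap d M le_rfl s₁) =
      ((Scheme.Modules.pullback d).obj M).presheaf.map (homOfLE (inf_le_right : d ⁻¹ᵁ V₁ ⊓ d ⁻¹ᵁ V₂ ≤ d ⁻¹ᵁ V₂)).op
        (h₂ • pullMap d M le_rfl s₂) := by
  show ((Scheme.Modules.pullback d).obj M).presheaf.map
      (homOfLE (d.preimage_mono (inf_le_left : V₁ ⊓ V₂ ≤ V₁))).op (h₁ • pullMap d M le_rfl s₁) =
    ((Scheme.Modules.pullback d).obj M).presheaf.map
      (homOfLE (d.preimage_mono (inf_le_right : V₁ ⊓ V₂ ≤ V₂))).op (h₂ • pullMap d M le_rfl s₂)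
  rw [Scheme.Modules.map_smul, Scheme.Modules.map_smul, pullMap_res d M le_rfl inf_le_left _ le_rfl s₁,
    pullMap_res d M le_rfl inf_le_right _ le_rfl s₂, ← he, pullMap_smul, ← mul_smul]
  exact congrArg (· • _) h

/-- Finitely many refinements of a stage have a common one. -/
theorem exists_common {i : I} {κ : Type u} [Finite κ] (j : κ → I) (φ : ∀ a, j a ⟶ i) :
    ∃ (k : I) (ψ : k ⟶ i) (p : ∀ a, k ⟶ j a), ∀ a, p a ≫ φ a = ψ := by
  classical
  cases nonempty_fintype κ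
  obtain ⟨k, hk⟩ := IsCofiltered.inf_objs_exists (Finset.univ.image fun a => Over.mk (φ a))
  exact ⟨k.left, k.hom, fun a => (hk (Finset.mem_image.2 ⟨a, Finset.mem_univ a, rfl⟩)).some.left,
    fun a => Over.w _⟩

include hc in
/-- A function on the preimage of a compact open comes from a later stage. -/
theorem exists_fun_stage {i : I} (O : (D.obj i).Opens) (hO : IsCompact (O : Set (D.obj i)))
    (s : Γ(c.pt, pr c i ⁻¹ᵁ O)) :
    ∃ (j : I) (φ : j ⟶ i) (t : Γ(D.obj j, D.map φ ⁻¹ᵁ O)), ap (pr c j) (preimage_le D c φ O) t = s := by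
  have (k : Over i) : CompactSpace ((opensDiagram D i O).obj k) :=
    isCompact_iff_compactSpace.mp (QuasiCompact.isCompact_preimage _ O.2 hO)
  have (k : Over i) : QuasiSeparatedSpace ((opensDiagram D i O).obj k) :=
    (isQuasiSeparated_iff_quasiSeparatedSpace _ (D.map _ ⁻¹ᵁ _).2).mp (.of_quasiSeparatedSpace _)
  obtain ⟨k, t, ht⟩ := exists_appTop_π_eq_of_isLimit _ _ (isLimitOpensCone D c hc i O)
    (((pr c i ⁻¹ᵁ O).topIso).inv s)
  refine ⟨k.left, k.hom, ((D.map k.hom ⁻¹ᵁ O).topIso).hom t, ?_⟩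
  have h1 := congrArg ((pr c i ⁻¹ᵁ O).topIso).hom ht
  rw [← ConcreteCategory.comp_apply, Iso.inv_hom_id, ConcreteCategory.id_apply] at h1
  rw [h1]
  have e : ((opensCone D c i O).π.app k).appTop ≫ (pr c i ⁻¹ᵁ O).topIso.hom =
      (D.map k.hom ⁻¹ᵁ O).topIso.hom ≫ (pr c k.left).appLE _ _ (preimage_le D c k.hom O) := by
    simp [opensCone, pr, Scheme.Hom.app_eq_appLE, Scheme.Hom.resLE_appLE, Scheme.Opens.topIso]
  exact (congr($(e).hom t)).symm

include hc in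
/-- A unit on the preimage of a compact open comes from a unit of a later stage. -/
theorem exists_unit_stage {i : I} (O : (D.obj i).Opens) (hO : IsCompact (O : Set (D.obj i)))
    {s : Γ(c.pt, pr c i ⁻¹ᵁ O)} (hs : IsUnit s) :
    ∃ (j : I) (φ : j ⟶ i) (t : Γ(D.obj j, D.map φ ⁻¹ᵁ O)), IsUnit t ∧
      ap (pr c j) (preimage_le D c φ O) t = s := by
  obtain ⟨s', hs'⟩ := hs.exists_right_inv
  obtain ⟨j₁, φ₁, t₁, h₁⟩ := exists_fun_stage D c hc O hO s
  obtain ⟨j₂, φ₂, t₂, h₂⟩ := exists_fun_stage D c hc O hO s'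
  obtain ⟨k, ψ, p, hp⟩ := exists_common (κ := ULift.{u} Bool) (i := i)
    (fun b => if b.down then j₁ else j₂) (fun b => match b with | ⟨true⟩ => φ₁ | ⟨false⟩ => φ₂)
  have e₁ : D.map ψ ⁻¹ᵁ O ≤ D.map (p ⟨true⟩) ⁻¹ᵁ (D.map φ₁ ⁻¹ᵁ O) := by
    rw [← Scheme.Hom.comp_preimage, ← D.map_comp, show p ⟨true⟩ ≫ φ₁ = ψ from hp ⟨true⟩]
  have e₂ : D.map ψ ⁻¹ᵁ O ≤ D.map (p ⟨false⟩) ⁻¹ᵁ (D.map φ₂ ⁻¹ᵁ O) := by
    rw [← Scheme.Hom.comp_preimage, ← D.map_comp, show p ⟨false⟩ ≫ φ₂ = ψ from hp ⟨false⟩]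
  let u₁ := ap (D.map (p ⟨true⟩)) e₁ t₁
  let u₂ := ap (D.map (p ⟨false⟩)) e₂ t₂
  have hu₁ : ap (pr c k) (preimage_le D c ψ O) u₁ = s := by
    show ap _ _ (ap _ _ t₁) = s
    exact (ap_w D c _ _ _ t₁).trans h₁
  have hu₂ : ap (pr c k) (preimage_le D c ψ O) u₂ = s' := by
    show ap _ _ (ap _ _ t₂) = s'
    exact (ap_w D c _ _ _ t₂).trans h₂
  have hle : pr c i ⁻¹ᵁ O = pr c k ⁻¹ᵁ (D.map ψ ⁻¹ᵁ O) := by
    rw [← Scheme.Hom.comp_preimage, pr_w]
  obtain ⟨l, χ, hl⟩ := exists_app_map_eq_map_of_isLimit D c hc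
    (U := D.map ψ ⁻¹ᵁ O) (QuasiCompact.isCompact_preimage _ O.2 hO) (u₁ * u₂) 1 (by
      have h3 := congrArg (rs hle.ge) (show ap (pr c k) (preimage_le D c ψ O) (u₁ * u₂) =
        ap (pr c k) (preimage_le D c ψ O) 1 by rw [map_mul, hu₁, hu₂, hs', map_one])
      rw [rs_ap, rs_ap] at h3
      rw [Scheme.Hom.app_eq_appLE]
      exact h3)
  have e₃ : D.map (χ ≫ ψ) ⁻¹ᵁ O ≤ D.map χ ⁻¹ᵁ (D.map ψ ⁻¹ᵁ O) := by
    rw [D.map_comp, Scheme.Hom.comp_preimage]
  rw [Scheme.Hom.app_eq_appLE, map_mul, map_one] at hl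
  refine ⟨l, χ ≫ ψ, ap (D.map χ) e₃ u₁, IsUnit.of_mul_eq_one (ap (D.map χ) e₃ u₂) ?_, ?_⟩
  · have h3 := congrArg (rs e₃) hl
    rw [map_mul, map_one, rs_ap, rs_ap] at h3
    exact h3
  · rw [ap_w]
    exact hu₁

include hc in
/-- An invertible module on the limit comes from a stage. -/
theorem exists_invertible_stage {L : c.pt.Modules} (hL : PicF.IsInvertible L) :
    ∃ (i : I) (M : (D.obj i).Modules), PicF.IsInvertible M ∧
      Nonempty ((Scheme.Modules.pullback (pr c i)).obj M ≅ L) := by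
  classical
  haveI := Scheme.compactSpace_of_isLimit D c hc
  choose W₀ τ₀ hx₀ hτ₀ using fun x => exists_gen_nhd hL x
  choose W hW hxW hWle using fun x : c.pt =>
    c.pt.isBasis_affineOpens.exists_subset_of_mem_open (hx₀ x) (W₀ x).isOpen
  let Wo : c.pt → c.pt.Opens := fun x => (hW x).choose
  have hWo : ∀ x, IsAffineOpen (Wo x) ∧ (Wo x : Set c.pt) = W x := fun x => (hW x).choose_spec
  obtain ⟨i, s, V, hV, hVa⟩ := Scheme.exists_isOpenCover_and_isAffine D c hc Wo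
    (eq_top_iff.2 fun x _ => Opens.mem_iSup.2 ⟨x, show x ∈ (Wo x : Set c.pt) by rw [(hWo x).2]; exact hxW x⟩)
    (fun x => (hWo x).1)
  have hVa' : ∀ a : s, Wo a.1 = pr c i ⁻¹ᵁ V a := fun a => (hVa a).2
  have hle : ∀ a : s, pr c i ⁻¹ᵁ V a ≤ W₀ a.1 := fun a => by
    rw [← hVa' a]
    intro z hz
    exact hWle a.1 ((hWo a.1).2 ▸ hz)
  -- transition units at the limit
  have hη₀ : ∀ a b : s, ∃ e : Γ(c.pt, pr c i ⁻¹ᵁ (V a ⊓ V b)), IsUnit e ∧
      e • L.presheaf.map (homOfLE (((pr c i).preimage_mono inf_le_right).trans (hle b))).op (τ₀ b.1) =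
        L.presheaf.map (homOfLE (((pr c i).preimage_mono inf_le_left).trans (hle a))).op (τ₀ a.1) := fun a b =>
    ((hτ₀ a.1).res _).exists_unit ((hτ₀ b.1).res _)
  choose e he hetr using hη₀
  have hcpt : ∀ a b : s, IsCompact ((V a ⊓ V b : (D.obj i).Opens) : Set (D.obj i)) := fun a b =>
    ((hVa a).1.isCompact).inter_of_isOpen ((hVa b).1.isCompact) (V a).isOpen (V b).isOpen
  choose j φ t ht hte using fun p : s × s => exists_unit_stage D c hc _ (hcpt p.1 p.2) (he p.1 p.2)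
  obtain ⟨k, ψ, p, hp⟩ := exists_common j φ
  let U : s → (D.obj k).Opens := fun a => D.map ψ ⁻¹ᵁ V a
  have hUle : ∀ a b, U a ⊓ U b ≤ D.map (p (a, b)) ⁻¹ᵁ (D.map (φ (a, b)) ⁻¹ᵁ (V a ⊓ V b)) := fun a b => by
    rw [← Scheme.Hom.comp_preimage, ← D.map_comp, hp]
    exact le_rfl
  let η₁ : ∀ a b, Γ(D.obj k, U a ⊓ U b) := fun a b => ap (D.map (p (a, b))) (hUle a b) (t (a, b))
  have hη₁ : ∀ a b, IsUnit (η₁ a b) := fun a b => (ht (a, b)).map _
  -- the cocycle identity holds at a later stage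
  have htop : ∀ {l : I} (χ : l ⟶ k) (a : s), pr c l ⁻¹ᵁ (D.map χ ⁻¹ᵁ U a) ≤ pr c i ⁻¹ᵁ V a := fun χ a => by
    simp only [U, ← Scheme.Hom.comp_preimage, ← D.map_comp, pr_w]
    exact le_rfl
  have hη₁top : ∀ a b (O : c.pt.Opens) (hO : O ≤ pr c k ⁻¹ᵁ (U a ⊓ U b)) (hO' : O ≤ pr c i ⁻¹ᵁ (V a ⊓ V b)),
      ap (pr c k) hO (η₁ a b) = rs hO' (e a b) := fun a b O hO hO' => by
    show ap _ _ (ap _ _ (t (a, b))) = _
    rw [ap_w, ← hte (a, b), rs_ap]
  have hcyc : ∀ q : s × s × s, ∃ (l : I) (χ : l ⟶ k),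
      (D.map χ).app (U q.1 ⊓ U q.2.1 ⊓ U q.2.2) (rs (inf_le_inf_right _ inf_le_left) (η₁ q.1 q.2.2)) =
      (D.map χ).app (U q.1 ⊓ U q.2.1 ⊓ U q.2.2)
        (rs inf_le_left (η₁ q.1 q.2.1) * rs (inf_le_inf_right _ inf_le_right) (η₁ q.2.1 q.2.2)) := by
    rintro ⟨a, b, d⟩
    dsimp only
    have hc3 : IsCompact ((U a ⊓ U b ⊓ U d : (D.obj k).Opens) : Set (D.obj k)) :=
      QuasiCompact.isCompact_preimage _ (V a ⊓ V b ⊓ V d).2
        (((hVa a).1.isCompact.inter_of_isOpen ((hVa b).1.isCompact) (V a).isOpen (V b).isOpen).inter_of_isOpen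
          ((hVa d).1.isCompact) ((V a ⊓ V b).isOpen) (V d).isOpen)
    refine exists_app_map_eq_map_of_isLimit D c hc hc3 _ _ ?_
    let T := pr c k ⁻¹ᵁ (U a ⊓ U b ⊓ U d)
    have hT : T ≤ pr c i ⁻¹ᵁ (V a ⊓ V b ⊓ V d) := by
      simp only [T, U, ← Scheme.Hom.preimage_inf, ← Scheme.Hom.comp_preimage, pr_w]
      exact le_rfl
    rw [Scheme.Hom.app_eq_appLE, map_mul]
    show ap (pr c k) (le_refl T) (rs _ _) = ap (pr c k) (le_refl T) (rs _ _) * ap (pr c k) (le_refl T) (rs _ _)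
    rw [ap_rs, ap_rs, ap_rs,
      hη₁top a d _ _ (hT.trans ((pr c i).preimage_mono (inf_le_inf_right _ inf_le_left))),
      hη₁top a b _ _ (hT.trans ((pr c i).preimage_mono inf_le_left)),
      hη₁top b d _ _ (hT.trans ((pr c i).preimage_mono (inf_le_inf_right _ inf_le_right)))]
    refine gen_inj' ((hτ₀ d.1).res (hT.trans (((pr c i).preimage_mono inf_le_right).trans (hle d)))) ?_
    have key : ∀ (x y : s) (hxy : T ≤ pr c i ⁻¹ᵁ (V x ⊓ V y)),
        rs hxy (e x y) • L.presheaf.map (homOfLE (hxy.trans (((pr c i).preimage_mono inf_le_right).trans (hle y)))).op (τ₀ y.1) =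
          L.presheaf.map (homOfLE (hxy.trans (((pr c i).preimage_mono inf_le_left).trans (hle x)))).op (τ₀ x.1) :=
      fun x y hxy => by
        refine Eq.trans (Eq.symm ?_) ((congrArg (L.presheaf.map (homOfLE hxy).op) (hetr x y)).trans (ParaFLib.res_res _ _ _))
        exact (Scheme.Modules.map_smul L _ _ _).trans (congrArg (_ • ·) (ParaFLib.res_res _ _ _))
    rw [mul_smul]
    exact (key a d _).trans ((key a b _).symm.trans (congrArg (_ • ·) (key b d _).symm))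
  choose l χ hl using hcyc
  obtain ⟨m, ω, r, hr⟩ := exists_common l χ
  let U' : s → (D.obj m).Opens := fun a => D.map ω ⁻¹ᵁ U a
  let η : ∀ a b, (Γ(D.obj m, U' a ⊓ U' b))ˣ := fun a b =>
    ((hη₁ a b).map (ap (D.map ω) (le_refl (U' a ⊓ U' b)))).unit
  have hU' : iSup U' = ⊤ := by
    simp only [U', U, ← Scheme.Hom.comp_preimage, ← Scheme.Hom.preimage_iSup]
    rw [show iSup V = ⊤ from hV, Scheme.Hom.preimage_top]
  have hco : ParaFLib.IsCocycle U' η := by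
    intro a b d
    have h := congrArg (ap (D.map (r (a, b, d))) (show U' a ⊓ U' b ⊓ U' d ≤
      D.map (r (a, b, d)) ⁻¹ᵁ (D.map (χ (a, b, d)) ⁻¹ᵁ (U a ⊓ U b ⊓ U d)) by
        rw [← Scheme.Hom.comp_preimage, ← D.map_comp, hr]; exact le_rfl)) (hl (a, b, d))
    rw [Scheme.Hom.app_eq_appLE] at h
    change ap _ _ (ap _ _ (rs _ _)) = ap _ _ (ap _ _ (rs _ _ * rs _ _)) at h
    rw [map_mul, map_mul, ap_ap, ap_ap, ap_ap, ap_rs, ap_rs, ap_rs] at h
    have hD : D.map (r (a, b, d)) ≫ D.map (χ (a, b, d)) = D.map ω := by rw [← D.map_comp, hr]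
    simp only [ap_congr hD] at h
    show rs _ (ap _ _ (η₁ a d)) = rs _ (ap _ _ (η₁ a b)) * rs _ (ap _ _ (η₁ b d))
    rw [rs_ap, rs_ap, rs_ap]
    exact h
  obtain ⟨M, σ, hM, hσ, hσt⟩ := exists_invertible_of_cocycle U' η hU' hco
  refine ⟨m, M, hM, ?_⟩
  let g := pr c m
  let T : s → c.pt.Opens := fun a => g ⁻¹ᵁ U' a
  have hTi : ∀ a, T a ≤ pr c i ⁻¹ᵁ V a := fun a => htop ω a
  refine nonempty_iso_of_bases (U := T) (s := fun a => pullMap g M le_rfl (σ a))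
    (t := fun a => L.presheaf.map (homOfLE ((hTi a).trans (hle a))).op (τ₀ a.1))
    (by rw [← Scheme.Hom.preimage_iSup, hU', Scheme.Hom.preimage_top])
    (fun a => AmpleEmb.gen_pullMap g hM (hσ a)) (fun a => (hτ₀ a.1).res _)
    (fun a b => g.app (U' a ⊓ U' b) (η a b)) (fun a b => ?_) (fun a b => ?_)
  · have := pullMap_res g M le_rfl (inf_le_left : U' a ⊓ U' b ≤ U' a) (g.preimage_mono inf_le_left) le_rfl (σ a)
    refine this.trans ?_
    rw [hσt a b, pullMap_smul, ← pullMap_res g M le_rfl (inf_le_right : U' a ⊓ U' b ≤ U' b)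
      (g.preimage_mono inf_le_right) le_rfl (σ b), Scheme.Hom.app_eq_appLE]
    rfl
  · have hO : T a ⊓ T b ≤ pr c i ⁻¹ᵁ (V a ⊓ V b) := le_inf (inf_le_left.trans (hTi a)) (inf_le_right.trans (hTi b))
    have hval : (g.app (U' a ⊓ U' b) (η a b) : Γ(c.pt, T a ⊓ T b)) = rs hO (e a b) := by
      rw [Scheme.Hom.app_eq_appLE]
      show ap g _ (ap _ _ (η₁ a b)) = _
      rw [ap_w]
      exact hη₁top a b _ _ hO
    refine Eq.symm ?_
    rw [hval]
    refine Eq.trans (congrArg (_ • ·) (ParaFLib.res_res _ _ _)) (Eq.trans ?_ (ParaFLib.res_res _ _ _).symm)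
    refine Eq.trans (Eq.symm ?_) ((congrArg (L.presheaf.map (homOfLE hO).op) (hetr a b)).trans (ParaFLib.res_res _ _ _))
    exact (Scheme.Modules.map_smul L _ _ _).trans (congrArg (_ • ·) (ParaFLib.res_res _ _ _))

include hc in
/-- A module trivial on the limit is trivial at a later stage. -/
theorem exists_triv_stage {i : I} {M : (D.obj i).Modules} (hM : PicF.IsInvertible M)
    (h : CubeLib.Triv ((Scheme.Modules.pullback (pr c i)).obj M)) :
    ∃ (j : I) (φ : j ⟶ i), CubeLib.Triv ((Scheme.Modules.pullback (D.map φ)).obj M) := by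
  classical
  obtain ⟨τ, hτ⟩ := h
  let N := (Scheme.Modules.pullback (pr c i)).obj M
  choose W₀ σ₀ hx₀ hσ₀ using fun x => exists_gen_nhd hM x
  choose W hW hxW hWle using fun x : D.obj i =>
    (D.obj i).isBasis_affineOpens.exists_subset_of_mem_open (hx₀ x) (W₀ x).isOpen
  obtain ⟨s, hs⟩ := CompactSpace.elim_nhds_subcover W fun x => by
    obtain ⟨O, -, hO⟩ := hW x
    exact (hO ▸ O.isOpen : IsOpen (W x)).mem_nhds (hxW x)
  let V : s → (D.obj i).Opens := fun a => (hW a.1).choose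
  have hVs : ∀ a : s, IsAffineOpen (V a) ∧ (V a : Set (D.obj i)) = W a.1 := fun a => (hW a.1).choose_spec
  have hVle : ∀ a : s, V a ≤ W₀ a.1 := fun a z hz => hWle a.1 ((hVs a).2 ▸ hz)
  have hV : iSup V = ⊤ := eq_top_iff.2 fun z _ => by
    obtain ⟨x, hx, hz⟩ := Set.mem_iUnion₂.1 (hs.ge (Set.mem_univ z))
    exact Opens.mem_iSup.2 ⟨⟨x, hx⟩, show z ∈ (V ⟨x, hx⟩ : Set (D.obj i)) by rw [(hVs ⟨x, hx⟩).2]; exact hz⟩
  let σ : ∀ a : s, Γ(M, V a) := fun a => M.presheaf.map (homOfLE (hVle a)).op (σ₀ a.1)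
  have hσ : ∀ a, Gen (V a) (σ a) := fun a => (hσ₀ a.1).res _
  let g := pr c i
  have hh : ∀ a : s, ∃ h : Γ(c.pt, g ⁻¹ᵁ V a), IsUnit h ∧
      h • pullMap g M le_rfl (σ a) = N.presheaf.map (homOfLE le_top).op τ := fun a =>
    (hτ.res le_top).exists_unit (AmpleEmb.gen_pullMap g hM (hσ a))
  choose h₀ hh₀ hh₀τ using hh
  have htr : ∀ a b, ∃ e : Γ(D.obj i, V a ⊓ V b), IsUnit e ∧
      e • M.presheaf.map (homOfLE (inf_le_right : V a ⊓ V b ≤ V b)).op (σ b) =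
        M.presheaf.map (homOfLE (inf_le_left : V a ⊓ V b ≤ V a)).op (σ a) := fun a b =>
    ((hσ a).res _).exists_unit ((hσ b).res _)
  choose e he hee using htr
  choose j φ t ht hte using fun a => exists_unit_stage D c hc _ (hVs a).1.isCompact (hh₀ a)
  obtain ⟨k, ψ, p, hp⟩ := exists_common j φ
  let U : s → (D.obj k).Opens := fun a => D.map ψ ⁻¹ᵁ V a
  have hUle : ∀ a, U a ≤ D.map (p a) ⁻¹ᵁ (D.map (φ a) ⁻¹ᵁ V a) := fun a => by
    rw [← Scheme.Hom.comp_preimage, ← D.map_comp, hp]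
  let H : ∀ a, Γ(D.obj k, U a) := fun a => ap (D.map (p a)) (hUle a) (t a)
  have hHtop : ∀ a (O : c.pt.Opens) (hO : O ≤ pr c k ⁻¹ᵁ U a) (hO' : O ≤ g ⁻¹ᵁ V a),
      ap (pr c k) hO (H a) = rs hO' (h₀ a) := fun a O hO hO' => by
    show ap _ _ (ap _ _ (t a)) = _
    rw [ap_w, ← hte a, rs_ap]
  have heq : ∀ q : s × s, ∃ (l : I) (χ : l ⟶ k),
      (D.map χ).app (U q.1 ⊓ U q.2) (rs inf_le_left (H q.1) * ap (D.map ψ) (le_refl (U q.1 ⊓ U q.2)) (e q.1 q.2)) =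
      (D.map χ).app (U q.1 ⊓ U q.2) (rs inf_le_right (H q.2)) := by
    rintro ⟨a, b⟩
    dsimp only
    refine exists_app_map_eq_map_of_isLimit D c hc
      (QuasiCompact.isCompact_preimage _ (V a ⊓ V b).2
        ((hVs a).1.isCompact.inter_of_isOpen (hVs b).1.isCompact (V a).isOpen (V b).isOpen)) _ _ ?_
    let T := pr c k ⁻¹ᵁ (U a ⊓ U b)
    have hT : T ≤ g ⁻¹ᵁ (V a ⊓ V b) := by
      simp only [T, U, g, ← Scheme.Hom.preimage_inf, ← Scheme.Hom.comp_preimage, pr_w]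
      exact le_rfl
    rw [Scheme.Hom.app_eq_appLE, map_mul]
    show ap (pr c k) (le_refl T) (rs _ _) * ap (pr c k) (le_refl T) (ap _ _ _) = ap (pr c k) (le_refl T) (rs _ _)
    rw [ap_rs, ap_rs, hHtop a _ _ (hT.trans (g.preimage_mono inf_le_left)),
      hHtop b _ _ (hT.trans (g.preimage_mono inf_le_right)), ap_w]
    refine gen_inj' ((AmpleEmb.gen_pullMap g hM ((hσ b).res (inf_le_right : V a ⊓ V b ≤ V b))).res hT) ?_
    have key : ∀ (x : s) (hx : V a ⊓ V b ≤ V x),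
        rs (hT.trans (g.preimage_mono hx)) (h₀ x) •
            N.presheaf.map (homOfLE hT).op (pullMap g M le_rfl (M.presheaf.map (homOfLE hx).op (σ x))) =
          N.presheaf.map (homOfLE le_top).op τ := fun x hx => by
      rw [← pullMap_res g M le_rfl hx (g.preimage_mono hx) le_rfl (σ x)]
      refine Eq.trans ?_ ((congrArg (N.presheaf.map (homOfLE (hT.trans (g.preimage_mono hx))).op) (hh₀τ x)).trans
        (ParaFLib.res_res _ _ _))
      exact (congrArg (_ • ·) (ParaFLib.res_res _ _ _)).trans (Scheme.Modules.map_smul N _ _ _).symm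
    refine Eq.trans ?_ ((key a inf_le_left).trans (key b inf_le_right).symm)
    rw [mul_smul, ← hee a b, pullMap_smul, Scheme.Modules.map_smul]
    exact congrArg (_ • ·) (congrArg (· • _) (rs_ap _ _ _ _).symm)
  choose l χ hl using heq
  obtain ⟨m, ω, r, hr⟩ := exists_common l χ
  refine ⟨m, ω ≫ ψ, ?_⟩
  let d := D.map (ω ≫ ψ)
  have hd : d = D.map ω ≫ D.map ψ := D.map_comp _ _
  let P := (Scheme.Modules.pullback d).obj M
  let O : s → (D.obj m).Opens := fun a => d ⁻¹ᵁ V a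
  have hO : ∀ a, O a ≤ D.map ω ⁻¹ᵁ U a := fun a => by simp only [O, hd, U]; exact le_rfl
  let sec : ∀ a, Γ(P, O a) := fun a => ap (D.map ω) (hO a) (H a) • pullMap d M le_rfl (σ a)
  have hcov : (⊤ : (D.obj m).Opens) ≤ iSup O := by
    rw [← Scheme.Hom.preimage_iSup, hV, Scheme.Hom.preimage_top]
  let F : TopCat.Sheaf Ab.{u} (D.obj m).carrier := ⟨P.presheaf, P.isSheaf⟩
  obtain ⟨τ', hτ', -⟩ := F.existsUnique_gluing' O ⊤ (fun _ => homOfLE le_top) hcov sec fun a b => by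
    refine pullMap_glue d M (σ a) (σ b) _ _ (e a b) (hee a b) ?_
    have hle : O a ⊓ O b ≤ D.map (r (a, b)) ⁻¹ᵁ (D.map (χ (a, b)) ⁻¹ᵁ (U a ⊓ U b)) := by
      rw [← Scheme.Hom.comp_preimage, ← D.map_comp, hr]
      exact inf_le_inf (hO a) (hO b)
    have h := congrArg (ap (D.map (r (a, b))) hle) (hl (a, b))
    rw [Scheme.Hom.app_eq_appLE] at h
    dsimp only at h
    change ap _ _ (ap _ _ (rs _ _ * ap _ _ _)) = ap _ _ (ap _ _ (rs _ _)) at h
    have hD : D.map (r (a, b)) ≫ D.map (χ (a, b)) = D.map ω := by rw [← D.map_comp, hr]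
    have hd' : (D.map (r (a, b)) ≫ D.map (χ (a, b))) ≫ D.map ψ = d := by rw [hD, ← hd]
    rw [map_mul, map_mul] at h
    simp only [ap_ap, ap_rs] at h
    simp only [← Category.assoc, ap_congr hd', ap_congr hD] at h
    show rs _ (ap _ _ (H a)) * ap d _ (e a b) = rs _ (ap _ _ (H b))
    rw [rs_ap, rs_ap]
    exact h
  refine ⟨τ', gen_of_cover O (fun _ => le_top) hcov fun a => ?_⟩
  rw [show P.presheaf.map (homOfLE (le_top : O a ≤ ⊤)).op τ' = sec a from hτ' a]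
  exact (AmpleEmb.gen_pullMap d hM (hσ a)).smul (((ht a).map _).map _)

end Groth.Agent.PicLimLib
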